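import Mathlib
import Cfsg.Prelude.Def_Characters
import Cfsg.Prelude.Def_Blocks
import Cfsg.Agent.CharBasics.Basic
import Cfsg.Agent.CharBasics.Ortho
import Cfsg.Agent.CharBasics.Central
import Cfsg.Agent.Clifford.Ito
import Cfsg.Agent.Transfer.Tate
import Cfsg.Agent.Transfer.FrattiniP

/-!
If every character of `p'`-degree of a Sylow normalizer extends to the group then the normalizer
has a normal complement.
-/

set_option autoImplicit false

open scoped commutatorElement

namespace CfsgLib.NormalizerExtend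

universe u

/-- Irreducible characters separate an element from the identity. -/
theorem exists_irr_apply_ne {H : Type u} [Group H] [Finite H] {x : H} (hx : x ≠ 1) :
    ∃ χ : Cfsg.IrrCharacter H, (χ : H → ℂ) x ≠ (χ : H → ℂ) 1 := by
  classical
  haveI := Fintype.ofFinite H
  haveI := CfsgLib.CharBasics.finite_irrCharacter (G := H)
  haveI := Fintype.ofFinite (Cfsg.IrrCharacter H)
  by_contra hc
  simp only [not_exists, ne_eq, not_not] at hc
  have h1 := CfsgLib.CharBasics.sum_mul_degree hx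
  rw [Finset.sum_congr rfl fun χ _ => by
    rw [hc χ, CfsgLib.CharBasics.apply_one (CfsgLib.CharBasics.isCharacter_of_irr χ.2), ← sq]] at h1
  have h2 : ((∑ χ : Cfsg.IrrCharacter H, Cfsg.charDegree (χ : H → ℂ) ^ 2 : ℕ) : ℂ) = 0 := by
    rw [Nat.cast_sum]
    simpa using h1
  rw [CfsgLib.CharBasics.sum_sq_degree, Nat.cast_eq_zero] at h2
  exact Nat.card_pos.ne' h2

variable {H : Type u} [Group H] [Finite H] {p : ℕ}

/-- A `p'`-degree character trivial on `M` which is nontrivial at `x`, when `A ⧸ M` is abelian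
of index prime to `p`. -/
theorem exists_pprime_irr (M A : Subgroup H) [M.Normal] [A.Normal] (hA : ¬ p ∣ A.index)
    (hcomm : ∀ a ∈ A, ∀ b ∈ A, ⁅a, b⁆ ∈ M) {x : H} (hx : x ∉ M) :
    ∃ θ : Cfsg.IrrCharacter H, ¬ p ∣ Cfsg.charDegree (θ : H → ℂ) ∧
      (∀ m ∈ M, (θ : H → ℂ) m = (θ : H → ℂ) 1) ∧ (θ : H → ℂ) x ≠ (θ : H → ℂ) 1 := by
  have hx' : (x : H ⧸ M) ≠ 1 := fun h => hx ((QuotientGroup.eq_one_iff x).mp h)
  obtain ⟨ψ, hψ⟩ := exists_irr_apply_ne hx'
  set mk := QuotientGroup.mk' M with hmk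
  have hs : Function.Surjective mk := QuotientGroup.mk'_surjective M
  haveI : (A.map mk).Normal := (inferInstance : A.Normal).map mk hs
  haveI : IsMulCommutative (A.map mk) := by
    refine ⟨⟨?_⟩⟩
    rintro ⟨_, a, ha, rfl⟩ ⟨_, b, hb, rfl⟩
    apply Subtype.ext
    show mk a * mk b = mk b * mk a
    rw [← commutatorElement_eq_one_iff_mul_comm, ← map_commutatorElement]
    exact (QuotientGroup.eq_one_iff _).mpr (hcomm a ha b hb)
  have hdeg : Cfsg.charDegree (fun h => (ψ : H ⧸ M → ℂ) (mk h)) =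
      Cfsg.charDegree (ψ : H ⧸ M → ℂ) := by
    simp [Cfsg.charDegree]
  refine ⟨⟨_, CfsgLib.CharBasics.irr_comp_of_surjective ψ.2 mk hs⟩, ?_, ?_, hψ⟩
  · show ¬ p ∣ Cfsg.charDegree (fun h => (ψ : H ⧸ M → ℂ) (mk h))
    rw [hdeg]
    intro hd
    exact hA (hd.trans ((CfsgLib.Clifford.ito_dvd ψ.2 (A.map mk)).trans (A.index_map_dvd hs)))
  · intro m hm
    show (ψ : H ⧸ M → ℂ) (mk m) = (ψ : H ⧸ M → ℂ) (mk 1)
    rw [show mk m = mk 1 from ((QuotientGroup.eq_one_iff m).mpr hm).trans (map_one mk).symm]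

variable {G : Type u} [Group G] [Finite G] [Fact p.Prime]

open CfsgLib.Transfer in
/-- A group with a self-normalizing Sylow subgroup and a normal subgroup meeting it inside its
Frattini subgroup and containing its commutators has a normal `p`-complement. -/
theorem hasNormalPComplement_of_self_normalizing (P : Sylow p G) (K : Subgroup G) [K.Normal]
    (hN : Subgroup.normalizer ((P : Subgroup G) : Set G) ≤ (P : Subgroup G))
    (hab : ∀ a ∈ (P : Subgroup G), ∀ b ∈ (P : Subgroup G), ⁅a, b⁆ ∈ K)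
    (hK : K.subgroupOf P ≤ frattini (P : Subgroup G)) : Cfsg.HasNormalPComplement p G := by
  set mk := QuotientGroup.mk' K with hmk
  have hs : Function.Surjective mk := QuotientGroup.mk'_surjective K
  let Q : Sylow p (G ⧸ K) := P.mapSurjective hs
  have hQ : (Q : Subgroup (G ⧸ K)) = (P : Subgroup G).map mk := Sylow.coe_mapSurjective hs P
  have hcomm : ∀ a ∈ (Q : Subgroup (G ⧸ K)), ∀ b ∈ (Q : Subgroup (G ⧸ K)), a * b = b * a := by
    rw [hQ]
    rintro _ ⟨a, ha, rfl⟩ _ ⟨b, hb, rfl⟩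
    rw [← commutatorElement_eq_one_iff_mul_comm, ← map_commutatorElement]
    exact (QuotientGroup.eq_one_iff _).mpr (hab a ha b hb)
  have hNQ : Subgroup.normalizer ((Q : Subgroup (G ⧸ K)) : Set (G ⧸ K)) ≤ (Q : Subgroup (G ⧸ K)) := by
    intro q hq
    obtain ⟨g, rfl⟩ := hs q
    set M : Subgroup G := (P : Subgroup G) ⊔ K with hM
    have hMc : M = (Q : Subgroup (G ⧸ K)).comap mk := by
      rw [hQ, Subgroup.comap_map_eq, QuotientGroup.ker_mk']
    have hP1 : ((g • P : Sylow p G) : Subgroup G) ≤ M := by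
      rw [hMc]
      intro y hy
      rw [Sylow.smul_def, Sylow.pointwise_smul_def] at hy
      obtain ⟨z, hz, rfl⟩ := hy
      show mk (g * z * g⁻¹) ∈ (Q : Subgroup (G ⧸ K))
      rw [map_mul, map_mul, map_inv]
      exact (Subgroup.mem_normalizer_iff.mp hq _).mp (hQ ▸ Subgroup.mem_map_of_mem mk hz)
    obtain ⟨k, hk⟩ := MulAction.exists_smul_eq M (P.subtype (le_sup_left : (P : Subgroup G) ≤ M))
      ((g • P).subtype hP1)
    rw [Sylow.smul_subtype] at hk
    have hkg : (k : G) • P = g • P := Sylow.subtype_injective hk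
    have hmem : (k : G)⁻¹ * g ∈ (P : Subgroup G) := by
      refine hN (Sylow.smul_eq_iff_mem_normalizer.mp ?_)
      rw [mul_smul, ← hkg, inv_smul_smul]
    have hkQ : mk k ∈ (Q : Subgroup (G ⧸ K)) := by
      exact hMc.le k.2
    have := mul_mem hkQ (hQ ▸ Subgroup.mem_map_of_mem mk hmem : mk ((k : G)⁻¹ * g) ∈ (Q : Subgroup (G ⧸ K)))
    rwa [← map_mul, mul_inv_cancel_left] at this
  have hNC : Subgroup.normalizer ((Q : Subgroup (G ⧸ K)) : Set (G ⧸ K)) ≤
      Subgroup.centralizer ((Q : Subgroup (G ⧸ K)) : Set (G ⧸ K)) :=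
    fun x hx => Subgroup.mem_centralizer_iff.mpr fun y hy => hcomm y hy x (hNQ hx)
  let f : G →* (Q : Subgroup (G ⧸ K)) := (MonoidHom.transferSylow Q hNC).comp mk
  haveI := pResidual_normal (p := p) (G := G)
  have hres : Cfsg.pResidual p G ≤ f.ker :=
    pResidual_le_of_isPGroup_quotient f.ker
      (Q.isPGroup'.of_injective (QuotientGroup.kerLift f) (QuotientGroup.kerLift_injective f))
  refine tate_residual P fun x hx => hK ?_
  have hd := MonoidHom.ker_transferSylow_disjoint Q hNC (Q : Subgroup (G ⧸ K)) Q.isPGroup'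
  have h1 : mk (x : G) = 1 := Subgroup.disjoint_def.mp hd (hres hx)
    (hQ ▸ Subgroup.mem_map_of_mem mk x.2)
  exact (QuotientGroup.eq_one_iff (x : G)).mp h1

open CfsgLib.Transfer in
/-- The normal complement. -/
theorem exists_complement (P : Sylow p G)
    (hext : ∀ θ : Cfsg.IrrCharacter ↥(Subgroup.normalizer ((P : Subgroup G) : Set G)),
      ¬ p ∣ Cfsg.charDegree (θ : ↥(Subgroup.normalizer ((P : Subgroup G) : Set G)) → ℂ) →
        ∃ χ : Cfsg.IrrCharacter G, ∀ x : ↥(Subgroup.normalizer ((P : Subgroup G) : Set G)),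
          (χ : G → ℂ) x = (θ : ↥(Subgroup.normalizer ((P : Subgroup G) : Set G)) → ℂ) x) :
    ∃ K : Subgroup G, K.Normal ∧ K ⊔ Subgroup.normalizer ((P : Subgroup G) : Set G) = ⊤ ∧
      K ⊓ Subgroup.normalizer ((P : Subgroup G) : Set G) = ⊥ := by
  set N := Subgroup.normalizer ((P : Subgroup G) : Set G) with hNdef
  set Φ := phi (P : Subgroup G) with hΦ
  set Pn := (P : Subgroup G).subgroupOf N with hPn
  set Φn := Φ.subgroupOf N with hΦn
  haveI : Pn.Normal := Subgroup.normal_in_normalizer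
  haveI : Φn.Normal :=
    (Subgroup.normal_subgroupOf_iff_le_normalizer ((phi_le _).trans Subgroup.le_normalizer)).mpr
      fun g hg => mem_normalizer_phi hg
  have hidx : ¬ p ∣ Pn.index :=
    fun hd => P.not_dvd_index (hd.trans (Subgroup.relIndex_dvd_index_of_le Subgroup.le_normalizer))
  have hcommΦ : ∀ a ∈ Pn, ∀ b ∈ Pn, ⁅a, b⁆ ∈ Φn := fun a ha b hb =>
    commutatorElement_mem_phi (x := (a : G)) (y := (b : G)) P.isPGroup' ha hb
  -- the normal subgroup cut out by extensions of characters trivial on `M`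
  have key : ∀ M : Subgroup N, M.Normal → Φn ≤ M → M ≤ Pn → ∃ K : Subgroup G, K.Normal ∧
      (∀ y : N, y ∈ M → (y : G) ∈ K) ∧ ∀ y : N, (y : G) ∈ K → y ∈ M := by
    intro M hM hΦM hMP
    let S := {χ : Cfsg.IrrCharacter G // ∀ y : N, y ∈ M → (χ : G → ℂ) y = (χ : G → ℂ) 1}
    refine ⟨⨅ χ : S, CfsgLib.CharBasics.charKer (χ.1 : G → ℂ)
        (CfsgLib.CharBasics.isCharacter_of_irr χ.1.2),
      Subgroup.normal_iInf_normal fun χ => CfsgLib.CharBasics.charKer_normal _, ?_, ?_⟩
    · intro y hy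
      exact Subgroup.mem_iInf.mpr fun χ => χ.2 y hy
    · intro y hy
      by_contra hyM
      obtain ⟨θ, hθd, hθM, hθy⟩ :=
        exists_pprime_irr M Pn hidx (fun a ha b hb => hΦM (hcommΦ a ha b hb)) hyM
      obtain ⟨χ, hχ⟩ := hext θ hθd
      have hone : (χ : G → ℂ) 1 = (θ : N → ℂ) 1 := hχ 1
      have := Subgroup.mem_iInf.mp hy ⟨χ, fun z hz => by rw [hχ z, hθM z hz, hone]⟩
      change (χ : G → ℂ) y = (χ : G → ℂ) 1 at this
      exact hθy (by rw [← hχ y, this, hone])
  obtain ⟨K, hKn, hK1, hK2⟩ := key Φn inferInstance le_rfl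
    (fun y hy => phi_le (P : Subgroup G) hy)
  obtain ⟨L, hLn, hL1, hL2⟩ := key Pn inferInstance (fun y hy => phi_le (P : Subgroup G) hy) le_rfl
  have hPL : (P : Subgroup G) ≤ L := fun x hx => hL1 ⟨x, Subgroup.le_normalizer hx⟩ hx
  let PL : Sylow p L := P.subtype hPL
  have hPLc : (PL : Subgroup L) = (P : Subgroup G).subgroupOf L := rfl
  have hNL : Subgroup.normalizer ((PL : Subgroup L) : Set L) ≤ (PL : Subgroup L) := by
    intro x hx
    have hxN : (x : G) ∈ N := by
      refine Subgroup.mem_normalizer_fintype fun y hy => ?_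
      exact (Subgroup.mem_normalizer_iff.mp hx ⟨y, hPL hy⟩).mp hy
    exact hL2 ⟨x, hxN⟩ x.2
  have hLc : Cfsg.HasNormalPComplement p L := by
    refine hasNormalPComplement_of_self_normalizing PL (K.subgroupOf L) hNL ?_ ?_
    · intro a ha b hb
      have h := commutatorElement_mem_phi (x := (a : G)) (y := (b : G)) P.isPGroup' ha hb
      exact hK1 ⟨⁅(a : G), (b : G)⁆, Subgroup.le_normalizer (phi_le (P : Subgroup G) h)⟩ h
    · intro y hy
      have hyP : ((y : L) : G) ∈ (P : Subgroup G) := y.2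
      obtain ⟨z, hz, hze⟩ := hK2 ⟨_, Subgroup.le_normalizer hyP⟩ hy
      let e : (P : Subgroup G) ≃* (PL : Subgroup L) := (Subgroup.subgroupOfEquivOfLe hPL).symm
      have he : e z = y := Subtype.ext (Subtype.ext hze)
      rw [← he]
      exact (frattini_le_comap_frattini_of_surjective (φ := e.toMonoidHom) e.surjective) hz
  haveI := pResidual_characteristic (p := p) (G := L)
  refine ⟨(Cfsg.pResidual p L).map L.subtype, inferInstance, ?_, ?_⟩
  · refine eq_top_iff.mpr fun g _ => ?_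
    have hLN : (g : G) ∈ N ⊔ L := by
      have h := Sylow.normalizer_sup_eq_top PL
      have hm : ((PL : Subgroup L)).map L.subtype = (P : Subgroup G) := Subgroup.map_subgroupOf_eq_of_le hPL
      rw [hm] at h
      rw [h]; trivial
    have hle : L ≤ (Cfsg.pResidual p L).map L.subtype ⊔ N := by
      intro x hx
      have hmem : (⟨x, hx⟩ : L) ∈ Cfsg.pResidual p L ⊔ (PL : Subgroup L) := by
        rw [pResidual_sup_sylow]; trivial
      obtain ⟨r, hr, s, hs, hrs⟩ := Subgroup.mem_sup_of_normal_left.mp hmem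
      have : x = (r : G) * (s : G) := (congrArg Subtype.val hrs).symm
      rw [this]
      exact mul_mem (Subgroup.mem_sup_left (Subgroup.mem_map_of_mem _ hr))
        (Subgroup.mem_sup_right (Subgroup.le_normalizer hs))
    exact sup_le le_sup_right hle hLN
  · rw [eq_bot_iff]
    rintro _ ⟨⟨r, hr, rfl⟩, hrN⟩
    have hrP : r ∈ (PL : Subgroup L) := hL2 ⟨_, hrN⟩ r.2
    have h := (hasNormalPComplement_iff_inf PL).mp hLc
    have : r ∈ Cfsg.pResidual p L ⊓ (PL : Subgroup L) := ⟨hr, hrP⟩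
    rw [h, Subgroup.mem_bot] at this
    simp [this]

/-- Every character of the normalizer extends along a normal complement. -/
theorem exists_extend {N K : Subgroup G} [K.Normal] (hsup : K ⊔ N = ⊤) (hinf : K ⊓ N = ⊥)
    (θ : Cfsg.IrrCharacter N) : ∃ χ : Cfsg.IrrCharacter G, ∀ x : N, (χ : G → ℂ) x = (θ : N → ℂ) x := by
  let f : N →* G ⧸ K := (QuotientGroup.mk' K).comp N.subtype
  have hf : Function.Bijective f := by
    refine ⟨(MonoidHom.ker_eq_bot_iff f).mp ?_, ?_⟩
    · rw [eq_bot_iff]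
      intro x hx
      have h1 : (x : G) ∈ K ⊓ N := ⟨(QuotientGroup.eq_one_iff (N := K) (x : G)).mp hx, x.2⟩
      rw [hinf, Subgroup.mem_bot] at h1
      exact Subgroup.mem_bot.mpr (Subtype.ext h1)
    · intro q
      obtain ⟨g, rfl⟩ := QuotientGroup.mk'_surjective K q
      obtain ⟨k, hk, n, hn, rfl⟩ :=
        Subgroup.mem_sup_of_normal_left.mp (hsup ▸ Subgroup.mem_top g : g ∈ K ⊔ N)
      refine ⟨⟨n, hn⟩, ?_⟩
      show QuotientGroup.mk' K n = _
      rw [map_mul, show QuotientGroup.mk' K k = 1 from (QuotientGroup.eq_one_iff k).mpr hk, one_mul]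
  let e := MulEquiv.ofBijective f hf
  let π : G →* N := e.symm.toMonoidHom.comp (QuotientGroup.mk' K)
  have hπ : Function.Surjective π := e.symm.surjective.comp (QuotientGroup.mk'_surjective K)
  refine ⟨⟨_, CfsgLib.CharBasics.irr_comp_of_surjective θ.2 π hπ⟩, fun x => ?_⟩
  show (θ : N → ℂ) (π x) = _
  have hx : π (x : G) = x := e.symm_apply_apply x
  rw [hx]

end CfsgLib.NormalizerExtend
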